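import Cfsg.Agent.Lib.SpGen.RegUnip

/-!
Three conjugates of a regular unipotent generate the symplectic group: fields with at least three
elements.
-/

set_option autoImplicit false

namespace Cfsg.Agent.SpGen

open Matrix Cfsg.Agent.ClassicalSimple Cfsg.Agent.Fusion.SympBlocks

variable {k : ℕ} {F : Type*} [Field F]

local notation "BB" => sympBilin (k + 2) F
local notation "δ" => fun i => (Pi.single i (1 : F) : Fin (k + 2) → F)

variable (k) in
/-- The last but one index. -/
def prevIdx : Fin (k + 2) := ⟨k, by omega⟩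

theorem exists_ne_two [Fintype F] (h : 3 ≤ Fintype.card F) (a : F) : ∃ ε : F, ε ≠ 0 ∧ ε ≠ a := by
  classical
  by_contra hc
  push Not at hc
  have hsub : (Finset.univ : Finset F) ⊆ {0, a} := fun x _ => by
    rcases eq_or_ne x 0 with rfl | hx
    · simp
    · simp [hc x hx]
  have := (Finset.card_le_card hsub).trans Finset.card_le_two
  rw [Finset.card_univ] at this
  omega

theorem regB_eVec (i : Fin (k + 2)) :
    regB k F • eVec k F i = Sum.elim (bidiag k F *ᵥ Pi.single i 1) 0 := by
  rw [eVec, regB_smul, Pi.zero_apply, zero_smul, add_zero, mulVec_zero]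

theorem bidiag_single_zero : bidiag k F *ᵥ Pi.single 0 (1 : F) = Pi.single 0 1 := by
  ext i
  rw [bidiag_single]
  by_cases h : i = 0
  · subst h; simp
  · rw [Pi.single_eq_of_ne h, if_neg]
    have : i.1 ≠ 0 := fun e => h (Fin.ext e)
    simp only [Fin.val_zero]
    omega

theorem bidiag_single_succ (i j : Fin (k + 2)) (h : j.1 = i.1 + 1) :
    bidiag k F *ᵥ Pi.single j (1 : F) = Pi.single i 1 + Pi.single j 1 := by
  ext a
  rw [bidiag_single, Pi.add_apply]
  by_cases ha : a = j
  · subst ha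
    rw [if_pos (Or.inl rfl), Pi.single_eq_same, Pi.single_eq_of_ne, zero_add]
    exact fun e => by rw [e] at h; omega
  rw [Pi.single_eq_of_ne ha, add_zero]
  have ha' : a.1 ≠ j.1 := fun e => ha (Fin.ext e)
  by_cases hb : a = i
  · subst hb; rw [Pi.single_eq_same, if_pos (Or.inr h.symm)]
  · have hb' : a.1 ≠ i.1 := fun e => hb (Fin.ext e)
    rw [Pi.single_eq_of_ne hb, if_neg]
    omega

theorem regB_eVec_zero : regB k F • eVec k F 0 = eVec k F 0 := by
  rw [regB_eVec, eVec, bidiag_single_zero]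

/-- The word argument for fields with at least four elements. -/
theorem generators_of_triple [Fintype F] (hq : 4 ≤ Fintype.card F) {l μ : F} (hμ : μ ≠ 0)
    (hl0 : l ≠ 0) (hl1 : l * l ≠ 1) (hl : ∀ a : F, a ≠ 0 → ∃ p : ℕ, a = l ^ p)
    (x y : Fin (k + 2) ⊕ Fin (k + 2) → F)
    (hx : BB x (regB k F • x) = μ) (hcy : BB (eVec k F (lastIdx k)) y = μ)
    (hr : BB ((regB k F)⁻¹ • eVec k F (lastIdx k)) y = -(l * μ))
    (hQ : BB y (regB k F • y) = l * BB (regB k F • x) ((regB k F)⁻¹ • x))
    (hxi : ∀ s t : F, (regB k F)⁻¹ • x ≠ s • x + t • (regB k F • x))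
    (hyi : ∀ s t : F, regB k F • y ≠ s • eVec k F (lastIdx k) + t • y)
    (hlink : BB (regB k F • eVec k F (lastIdx k)) y ≠ 0)
    (he : BB (eVec k F 0) y ≠ 0) :
    ∃ g h : SpB BB, Subgroup.closure
      ({regB k F, g * regB k F * g⁻¹, h * regB k F * h⁻¹} : Set (SpB BB)) = ⊤ := by
  have hA := sympBilin_isAlt (m := k + 2) (F := F)
  set u := regB k F with hu_def
  set c := eVec k F (lastIdx k) with hc_def
  have hxa : BB x (u⁻¹ • x) = -μ := by
    rw [← form_smul u, smul_inv_smul, ← LinearMap.IsAlt.neg hA x, hx]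
  obtain ⟨g, hgx, hgux, hgb⟩ := exists_map_triple hA sympBilin_nondegenerate (p := x)
    (q := u • x) (a := u⁻¹ • x) (p' := c) (q' := y) (b := l⁻¹ • (u • y))
    (by rw [hx]; exact hμ) (by rw [hcy, hx]) (by
      rw [map_smul, ← form_smul u⁻¹, inv_smul_smul, hr, hxa, smul_eq_mul]
      field_simp)
    (by rw [map_smul, hQ, smul_eq_mul, inv_mul_cancel_left₀ hl0]) hxi
    (fun s t e => hyi (l * s) (l * t) (by
      rw [← smul_inv_smul₀ hl0 (u • y), e, smul_add, smul_smul, smul_smul]))
  let sc : GL (Fin (k + 2)) F := GeneralLinearGroup.mkOfDetNeZero (l • 1)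
    (by rw [det_smul, det_one, mul_one]; exact pow_ne_zero _ hl0)
  set kw : SpB BB := symplecticEquiv (lev sc) with hkw
  refine ⟨g, kw, ?_⟩
  set v := g * u * g⁻¹ with hv
  set w := kw * u * kw⁻¹ with hw
  set H := Subgroup.closure ({u, v, w} : Set (SpB BB))
  have huH : u ∈ H := Subgroup.subset_closure (by simp)
  have hvH : v ∈ H := Subgroup.subset_closure (by simp)
  have hwH : w ∈ H := Subgroup.subset_closure (by simp)
  have hgix : g⁻¹ • c = x := by rw [← hgx, inv_smul_smul]
  have hvc : v • c = y := by rw [hv, mul_smul, mul_smul, hgix, hgux]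
  have hvic : v⁻¹ • c = l⁻¹ • (u • y) := by
    rw [hv, _root_.mul_inv_rev, _root_.mul_inv_rev, inv_inv, mul_smul, mul_smul, hgix, hgb]
  -- the second conjugate gives a transvection
  have hw' : w = u * spTransv hA c (l * l - 1) := by
    have hc1 : sc * bidiagGL k F * sc⁻¹ = bidiagGL k F := by
      rw [mul_inv_eq_iff_eq_mul]
      exact Units.ext (by simp [sc])
    have h1 : lev sc * regMat k F * (lev sc)⁻¹ = regMat k F *
        sh (Matrix.single (lastIdx k) (lastIdx k) (l * l - 1)) (outer_symm _ _) := by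
      rw [regMat]
      have hsplit : lev sc * (lev (bidiagGL k F) *
          sh (Matrix.single (lastIdx k) (lastIdx k) (1 : F)) (outer_symm _ _)) * (lev sc)⁻¹ =
          lev (sc * bidiagGL k F * sc⁻¹) *
          (lev sc * sh (Matrix.single (lastIdx k) (lastIdx k) (1 : F)) (outer_symm _ _) *
            (lev sc)⁻¹) := by
        rw [map_mul, map_mul, map_inv]; group
      rw [hsplit, hc1, lev_conj_sh, mul_assoc (lev (bidiagGL k F)), sh_mul]
      congr 1
      refine sh_congr _ _ ?_
      have : (sc : Matrix (Fin (k + 2)) (Fin (k + 2)) F) = l • 1 := rfl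
      rw [this, transpose_smul, transpose_one, smul_mul_assoc, one_mul, mul_smul_comm, mul_one,
        smul_smul, Matrix.smul_single, ← Matrix.single_add]
      congr 1
      simp
    rw [hw, hkw, hu_def, regB, ← map_inv, ← map_mul, ← map_mul, h1, map_mul, sh_diag_eq_transv]
  have hct : spTransv hA c (l * l - 1) ∈ H := by
    have : spTransv hA c (l * l - 1) = u⁻¹ * w := by rw [hw']; group
    rw [this]
    exact mul_mem (inv_mem huH) hwH
  have hcC : c ∈ rootCentres hA H :=
    mem_rootCentres_of_scale hA (sub_ne_zero.2 hl1) hct hl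
      (g := v * u * v) (mul_mem (mul_mem hvH huH) hvH) (by
        rw [mul_smul, mul_smul, hvc, ← smul_inv_smul₀ hl0 (u • y), smul_comm v, ← hvic,
          smul_inv_smul])
  have hyC : y ∈ rootCentres hA H := hvc ▸ rootCentres_image hvH hcC
  have hcy' : Link hA H c y := ⟨hcC, hyC, by rw [hcy]; exact hμ⟩
  have huc : Reach hA H c (u • c) :=
    (Relation.ReflTransGen.single hcy').tail
      ⟨hyC, rootCentres_image huH hcC, fun e => hlink (hA.isRefl _ _ e)⟩
  refine eq_top_of_rootCentre sympBilin_nondegenerate (exists_ne_two (by omega)) huH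
    (e0 := eVec k F 0) regB_fixed regB_nil hcC _ rfl ?_ ⟨v, hvH, by rw [hvc]; exact he⟩
  rintro s (rfl | rfl | rfl)
  · exact huc
  · rw [hvc]; exact Relation.ReflTransGen.single hcy'
  · rw [hw', mul_smul, spTransv_smul, hA.self_eq_zero, mul_zero, zero_smul, add_zero]
    exact huc

/-- Fields with three elements. -/
theorem generators_three [Fintype F] (hq : Fintype.card F = 3) :
    ∃ g h : SpB BB, Subgroup.closure
      ({regB k F, g * regB k F * g⁻¹, h * regB k F * h⁻¹} : Set (SpB BB)) = ⊤ := by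
  have hA := sympBilin_isAlt (m := k + 2) (F := F)
  set u := regB k F with hu_def
  set c := eVec k F 0 with hc_def
  let x : Fin (k + 2) ⊕ Fin (k + 2) → F := Sum.elim 0 (Pi.single (lastIdx k) 1)
  have hx : BB x (u • x) = 1 := by
    rw [hu_def, regB_smul, dual_single_last, Pi.single_eq_same, one_smul, zero_add, form_elim,
      zero_dotProduct, sub_zero, single_dotProduct, one_mul, bidiag_single]
    simp
  let y : Fin (k + 2) ⊕ Fin (k + 2) → F := Sum.elim 0 (-Pi.single 0 1)
  have hcy : BB c y = 1 := by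
    simp only [c, y, eVec]
    rw [form_elim]
    simp
  obtain ⟨g, -, hgx, hgux⟩ := transvGroup_trans_pair hA sympBilin_nondegenerate hx hcy
  -- the conjugating element for the transvection
  let S : Matrix (Fin (k + 2)) (Fin (k + 2)) F := Matrix.single 0 1 1 + Matrix.single 1 0 1
  have hS : Sᵀ = S := by simp [S, transpose_add, add_comm]
  have hnS : (-S)ᵀ = -S := by rw [transpose_neg, hS]
  set kw : SpB BB := symplecticEquiv (sh (-S) hnS) with hkw
  refine ⟨g, kw, ?_⟩
  set v := g * u * g⁻¹ with hv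
  set w := kw * u * kw⁻¹ with hw
  set H := Subgroup.closure ({u, v, w} : Set (SpB BB))
  have huH : u ∈ H := Subgroup.subset_closure (by simp)
  have hvH : v ∈ H := Subgroup.subset_closure (by simp)
  have hwH : w ∈ H := Subgroup.subset_closure (by simp)
  have hgix : g⁻¹ • c = x := by rw [← hgx, inv_smul_smul]
  have hvc : v • c = y := by rw [hv, mul_smul, mul_smul, hgix, hgux]
  have hASA : bidiag k F * S * (bidiag k F)ᵀ = S + Matrix.single 0 0 2 := by
    have h0 := bidiag_single_zero (k := k) (F := F)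
    have h1 := bidiag_single_succ (k := k) (F := F) 0 1 (by simp)
    have key : ∀ i j, bidiag k F * Matrix.single i j (1 : F) * (bidiag k F)ᵀ =
        vecMulVec (bidiag k F *ᵥ Pi.single i 1) (bidiag k F *ᵥ Pi.single j 1) := fun i j => by
      rw [Matrix.single_eq_single_vecMulVec_single, mul_vecMulVec, vecMulVec_mul, vecMul_transpose]
    simp only [S, mul_add, add_mul, key, h0, h1]
    simp only [vecMulVec_add, add_vecMulVec, single_eq_single_vecMulVec_single]
    rw [show (2 : F) = 1 + 1 by norm_num, Matrix.single_add, single_eq_single_vecMulVec_single]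
    abel
  have hw' : w * u⁻¹ = spTransv hA c 2 := by
    have h1 : sh (-S) hnS * regMat k F * (sh (-S) hnS)⁻¹ * (regMat k F)⁻¹ =
        sh (Matrix.single 0 0 (2 : F)) (outer_symm _ _) := by
      rw [conj_sh_regMat hS]
      refine sh_congr _ _ ?_
      rw [hASA]
      abel
    rw [hw, hkw, hu_def, regB, ← map_inv, ← map_mul, ← map_mul, ← map_inv, ← map_mul, h1,
      sh_diag_eq_transv]
  have hct : spTransv hA c 2 ∈ H := hw' ▸ mul_mem hwH (inv_mem huH)
  have h2 : (2 : F) ≠ 0 := fun e => by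
    have h30 : ((3 : ℕ) : F) = 0 := hq ▸ FiniteField.cast_card_eq_zero F
    exact one_ne_zero (by push_cast at h30; linear_combination h30 - e : (1 : F) = 0)
  have : Fact (Nat.card F).Prime := ⟨by rw [Nat.card_eq_fintype_card, hq]; exact Nat.prime_three⟩
  have hcC : c ∈ rootCentres hA H := mem_rootCentres_of_prime hA h2 hct
  refine eq_top_of_rootCentre sympBilin_nondegenerate (exists_ne_two (by omega)) huH
    (e0 := c) regB_fixed regB_nil hcC _ rfl ?_ ⟨v, hvH, by rw [hvc, hcy]; exact one_ne_zero⟩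
  rintro s (rfl | rfl | rfl)
  · rw [hu_def, regB_eVec_zero]; exact Relation.ReflTransGen.refl
  · exact Relation.ReflTransGen.single
      ⟨hcC, rootCentres_image hvH hcC, by rw [hvc, hcy]; exact one_ne_zero⟩
  · have e : w = spTransv hA c 2 * u := by rw [← hw']; group
    rw [e, mul_smul, hu_def, regB_eVec_zero, spTransv_smul, hA.self_eq_zero, mul_zero, zero_smul,
      add_zero]
    exact Relation.ReflTransGen.refl

/-- The coordinates of the inverse image of the last basis vector. -/
theorem regB_inv_eVec_last :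
    (regB k F)⁻¹ • eVec k F (lastIdx k) =
      Sum.elim (fun i => (-1 : F) ^ (k + 1 - i.1)) 0 := by
  rw [inv_smul_eq_iff, regB_smul, Pi.zero_apply, zero_smul, add_zero, mulVec_zero, eVec]
  congr 1
  ext i
  rw [bidiag_mulVec]
  by_cases h : i = lastIdx k
  · subst h
    rw [ext0_ge _ (by simp [lastIdx]), Pi.single_eq_same, add_zero]
    simp [lastIdx]
  · have hi : i.1 < k + 1 := by
      have := i.2
      have : i.1 ≠ k + 1 := fun e => h (Fin.ext e)
      omega
    rw [Pi.single_eq_of_ne h, ext0, dif_pos (by omega),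
      show k + 1 - i.1 = (k + 1 - (i.1 + 1)) + 1 by omega, pow_succ]
    ring

/-- Two-element vectors. -/
theorem bidiag_two (a : Fin 2 → F) : bidiag 0 F *ᵥ a = ![a 0 + a 1, a 1] := by
  ext i
  rw [bidiag_mulVec]
  fin_cases i <;> simp [ext0]

theorem bidiag_transpose_two (a : Fin 2 → F) : (bidiag 0 F)ᵀ *ᵥ a = ![a 0, a 1 + a 0] := by
  ext i
  rw [bidiag_transpose_mulVec]
  fin_cases i <;> simp [ext0]

/-- The case of characteristic two and dimension four. -/
theorem generators_char_two_dim_four [Fintype F] (hq : 4 ≤ Fintype.card F) (h2 : (2 : F) = 0)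
    {l : F} (hl0 : l ≠ 0) (hl1 : l * l ≠ 1) (hl : ∀ a : F, a ≠ 0 → ∃ p : ℕ, a = l ^ p) :
    ∃ g h : SpB (sympBilin (0 + 2) F), Subgroup.closure
      ({regB 0 F, g * regB 0 F * g⁻¹, h * regB 0 F * h⁻¹} : Set (SpB (sympBilin (0 + 2) F))) = ⊤ := by
  have hl2 : (1 : F) + l ≠ 0 := fun e => hl1 (by linear_combination (l - 1) * e)
  obtain ⟨μ, hμ⟩ : ∃ μ : F, μ = l * (μ + l) := ⟨l * l / (1 + l), by
    field_simp
    linear_combination (-l) * h2⟩
  have hμ0 : μ ≠ 0 := fun e => by
    rw [e, zero_add] at hμ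
    exact mul_ne_zero hl0 hl0 hμ.symm
  have hL : lastIdx 0 = (1 : Fin 2) := rfl
  have hDx : bidiagDual 0 F *ᵥ ![μ, l] = ![μ, l - μ] := dual_mulVec_eq (by
    rw [bidiag_transpose_two]; simp)
  have hux : regB 0 F • Sum.elim (0 : Fin 2 → F) ![μ, l] = Sum.elim ![l, l] ![μ, l - μ] := by
    rw [regB_smul, hDx, bidiag_two, hL]
    simp
  have hDx2 : bidiagDual 0 F *ᵥ ![μ, l + μ] = ![μ, l] := dual_mulVec_eq (by
    rw [bidiag_transpose_two]; simp)
  have huix : (regB 0 F)⁻¹ • Sum.elim (0 : Fin 2 → F) ![μ, l] =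
      Sum.elim ![0, -(l + μ)] ![μ, l + μ] := by
    rw [inv_smul_eq_iff, regB_smul, hDx2, bidiag_two, hL]
    congr 1
    ext i; fin_cases i <;> simp
  have hDy : bidiagDual 0 F *ᵥ ![μ * (1 + l), μ] = ![μ * (1 + l), μ - μ * (1 + l)] :=
    dual_mulVec_eq (by rw [bidiag_transpose_two]; simp)
  have huy : regB 0 F • Sum.elim (0 : Fin 2 → F) ![μ * (1 + l), μ] =
      Sum.elim ![μ, μ] ![μ * (1 + l), μ - μ * (1 + l)] := by
    rw [regB_smul, hDy, bidiag_two, hL]
    simp
  have huc : regB 0 F • eVec 0 F (lastIdx 0) = Sum.elim ![1, 1] 0 := by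
    rw [regB_eVec, bidiag_two, hL]
    simp
  refine generators_of_triple hq hμ0 hl0 hl1 hl (Sum.elim 0 ![μ, l])
    (Sum.elim 0 ![μ * (1 + l), μ]) ?_ ?_ ?_ ?_ ?_ ?_ ?_ ?_
  · rw [hux, form_elim]
    simp [dotProduct, Fin.sum_univ_two]
    linear_combination -hμ
  · rw [eVec, form_elim, hL]
    simp
    linear_combination (-μ) * h2
  · rw [regB_inv_eVec_last, form_elim]
    simp [dotProduct, Fin.sum_univ_two]
    linear_combination (μ * l) * h2
  · rw [huy, hux, huix, form_elim, form_elim]
    simp [dotProduct, Fin.sum_univ_two]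
    linear_combination (μ ^ 2 + l ^ 3 + l ^ 2 * μ) * h2
  · intro s t e
    rw [hux, huix] at e
    have e0 := congrFun e (Sum.inl 0)
    have e1 := congrFun e (Sum.inl 1)
    simp at e0 e1
    have ht : t = 0 := e0.resolve_right hl0
    rw [ht, zero_mul] at e1
    apply hμ0
    rw [hμ]
    linear_combination (-l) * e1
  · intro s t e
    rw [huy, eVec] at e
    have e0 := congrFun e (Sum.inr 0)
    have e1 := congrFun e (Sum.inr 1)
    simp at e0 e1
    have ht : t = 1 := mul_right_cancel₀ (mul_ne_zero hμ0 hl2) (by rw [one_mul]; exact e0.symm)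
    rw [ht, one_mul] at e1
    exact mul_ne_zero hμ0 hl2 (by linear_combination -e1)
  · rw [huc, form_elim]
    simp [dotProduct, Fin.sum_univ_two]
    intro e
    exact mul_ne_zero hμ0 hl0 (by linear_combination -e - μ * h2)
  · rw [eVec, form_elim]
    simp [dotProduct, Fin.sum_univ_two, hμ0, hl2]

/-- The generic case for fields with at least four elements. -/
theorem generators_generic [Fintype F] (hq : 4 ≤ Fintype.card F) {l : F} (hl0 : l ≠ 0)
    (hl1 : l * l ≠ 1) (hl : ∀ a : F, a ≠ 0 → ∃ p : ℕ, a = l ^ p) (hlk : k = 0 → l ≠ -2)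
    (h2k : (2 : F) ≠ 0 ∨ 1 ≤ k) :
    ∃ g h : SpB BB, Subgroup.closure
      ({regB k F, g * regB k F * g⁻¹, h * regB k F * h⁻¹} : Set (SpB BB)) = ⊤ := by
  set L := lastIdx k with hL
  set P := prevIdx k with hP
  have hL0 : L ≠ 0 := fun e => by simpa [hL, lastIdx] using congrArg Fin.val e
  have hLP : L ≠ P := fun e => by simpa [hL, hP, lastIdx, prevIdx] using congrArg Fin.val e
  have hAL : bidiag k F *ᵥ δ L = δ P + δ L :=
    bidiag_single_succ P L (by simp [hL, hP, lastIdx, prevIdx])
  set γ : F := (-1) ^ (k + 1) * (1 + l) with hγ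
  have hl2 : (1 : F) + l ≠ 0 := fun e => hl1 (by linear_combination (l - 1) * e)
  have hγ0 : γ ≠ 0 := mul_ne_zero (pow_ne_zero _ (by simp)) hl2
  set b : Fin (k + 2) → F := γ • δ 0 - δ L with hb
  have hbL : b L = -1 := by simp [hb, hL0]
  have hb0 : b 0 = γ := by simp [hb, Ne.symm hL0]
  set b' := bidiagDual k F *ᵥ b with hb'
  have hb'0 : b' 0 = γ := by
    have := congrFun (transpose_dual_mulVec b) 0
    rw [bidiag_transpose_mulVec, ← hb'] at this
    simpa [hb0] using this
  have hb'1 : b' 1 = b 1 - γ := by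
    have := congrFun (transpose_dual_mulVec b) 1
    rw [bidiag_transpose_mulVec, ← hb'] at this
    simp [ext0] at this
    rw [hb'0] at this
    linear_combination this
  -- a coordinate with non-zero slope
  obtain ⟨m, hm0, hslope⟩ : ∃ m : Fin (k + 2), m ≠ 0 ∧
      b ⬝ᵥ (bidiag k F *ᵥ δ m) - b' m ≠ 0 := by
    have hA1 : bidiag k F *ᵥ δ (1 : Fin (k + 2)) = δ 0 + δ 1 :=
      bidiag_single_succ 0 1 (by simp)
    by_cases h2 : (2 : F) = 0
    · have hk : 1 ≤ k := h2k.resolve_left (not_not.2 h2)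
      let m : Fin (k + 2) := ⟨2, by omega⟩
      refine ⟨m, fun e => by simpa [m] using congrArg Fin.val e, ?_⟩
      have hA2 : bidiag k F *ᵥ δ m = δ 1 + δ m := bidiag_single_succ 1 m (by simp [m])
      have hbm : b' m = b m - b' 1 := by
        have := congrFun (transpose_dual_mulVec b) m
        rw [bidiag_transpose_mulVec, ← hb', if_neg (by simp [m])] at this
        have e1 : ext0 b' (m.1 - 1) = b' 1 := by
          rw [show m.1 - 1 = (1 : Fin (k + 2)).1 by simp [m], ext0_val]
        rw [e1] at this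
        linear_combination this
      rw [hA2, dotProduct_add, dotProduct_single, dotProduct_single, hbm, hb'1]
      intro e
      exact hγ0 (by linear_combination -e + b 1 * h2)
    · refine ⟨1, by simp, ?_⟩
      rw [hA1, dotProduct_add, dotProduct_single, dotProduct_single, hb'1, hb0]
      intro e
      exact mul_ne_zero h2 hγ0 (by linear_combination e)
  set S0 := b ⬝ᵥ (bidiag k F *ᵥ δ L)
  set β : F := (l * (-2) + S0) / (b ⬝ᵥ (bidiag k F *ᵥ δ m) - b' m) with hβ
  have hux : regB k F • Sum.elim (0 : Fin (k + 2) → F) (δ L) = Sum.elim (δ P + δ L) (δ L) := by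
    rw [regB_smul, ← hL]
    simp only [Pi.single_eq_same, one_smul, zero_add]
    rw [hAL, hL, dual_single_last]
  have huix : (regB k F)⁻¹ • Sum.elim (0 : Fin (k + 2) → F) (δ L) = Sum.elim (-δ L) (δ L) := by
    rw [inv_smul_eq_iff, regB_smul, ← hL]
    simp only [Pi.single_eq_same, one_smul, neg_add_cancel, mulVec_zero]
    rw [hL, dual_single_last]
  have huy : regB k F • Sum.elim (β • δ m) b =
      Sum.elim (β • (bidiag k F *ᵥ δ m) - bidiag k F *ᵥ δ L) b' := by
    rw [regB_smul, ← hL, hbL, neg_one_smul, ← sub_eq_add_neg, mulVec_sub, mulVec_smul]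
  refine generators_of_triple hq (μ := 1) one_ne_zero hl0 hl1 hl (Sum.elim 0 (δ L))
    (Sum.elim (β • δ m) b) ?_ ?_ ?_ ?_ ?_ ?_ ?_ ?_
  · rw [hux, form_elim]
    simp [Ne.symm hLP, hLP]
  · rw [eVec, ← hL, form_elim]
    simp [hbL]
  · rw [regB_inv_eVec_last, form_elim]
    simp only [hb, dotProduct_sub, dotProduct_smul, smul_eq_mul, dotProduct_single, mul_one,
      Fin.val_zero, Nat.sub_zero, Pi.zero_apply, mul_zero, zero_sub]
    rw [show k + 1 - L.1 = 0 by simp [hL, lastIdx], pow_zero, hγ]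
    have he : ((-1 : F) ^ (k + 1)) * (-1) ^ (k + 1) = 1 := by rw [← mul_pow]; simp
    linear_combination (-(1 + l)) * he
  · rw [huy, hux, huix, form_elim, form_elim]
    have e1 : δ L ⬝ᵥ -δ L - (δ P + δ L) ⬝ᵥ δ L = (-2 : F) := by
      simp [hLP]
      norm_num
    rw [e1, dotProduct_sub, dotProduct_smul, smul_dotProduct, single_dotProduct, one_mul,
      smul_eq_mul, smul_eq_mul]
    have := div_mul_cancel₀ (l * (-2) + S0) hslope
    rw [← hβ] at this
    linear_combination this
  · intro s t e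
    rw [hux, huix] at e
    have eP := congrFun e (Sum.inl P)
    have eL := congrFun e (Sum.inl L)
    simp [hLP, Ne.symm hLP] at eP eL
    rw [← eP] at eL
    simp at eL
  · intro s t e
    rw [huy, eVec] at e
    have e0 := congrFun e (Sum.inr 0)
    have e1 := congrFun e (Sum.inr 1)
    simp [hb0, hb'0, hb'1] at e0 e1
    have ht : t = 1 := mul_right_cancel₀ hγ0 (by rw [one_mul]; exact e0.symm)
    rw [ht, one_mul] at e1
    exact hγ0 (by linear_combination -e1)
  · rw [regB_eVec, ← hL, hAL, form_elim]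
    simp only [zero_dotProduct, zero_sub, add_dotProduct, single_dotProduct, one_mul, hbL]
    by_cases hk : k = 0
    · have hP0 : P = 0 := Fin.ext (by simp [hP, prevIdx, hk])
      rw [hP0, hb0, hγ, hk]
      intro e
      exact hlk hk (by linear_combination e)
    · have hP0 : P ≠ 0 := fun e => hk (by simpa [hP, prevIdx] using congrArg Fin.val e)
      simp [hb, hP0, Ne.symm hLP]
  · rw [eVec, form_elim]
    simp [hb0, hγ0]

/-- Every field with at least four elements. -/
theorem generators_big [Fintype F] (hq : 4 ≤ Fintype.card F) :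
    ∃ g h : SpB BB, Subgroup.closure
      ({regB k F, g * regB k F * g⁻¹, h * regB k F * h⁻¹} : Set (SpB BB)) = ⊤ := by
  obtain ⟨z, hz⟩ := IsCyclic.exists_monoid_generator (α := Fˣ)
  have hz0 : (z : F) ≠ 0 := z.ne_zero
  have hgen : ∀ a : F, a ≠ 0 → ∃ p : ℕ, a = (z : F) ^ p := fun a ha => by
    obtain ⟨p, hp⟩ := hz (Units.mk0 a ha)
    exact ⟨p, by simpa using (congrArg Units.val hp).symm⟩
  have hgen' : ∀ a : F, a ≠ 0 → ∃ p : ℕ, a = ((z : F)⁻¹) ^ p := fun a ha => by
    obtain ⟨p, hp⟩ := hgen a⁻¹ (inv_ne_zero ha)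
    exact ⟨p, by rw [inv_pow, ← hp, inv_inv]⟩
  have hz1 : (z : F) * z ≠ 1 := by
    intro e
    obtain ⟨a, ha0, ha⟩ := exists_sq_ne_one F hq
    obtain ⟨p, rfl⟩ := hgen a ha0
    exact ha (by rw [← mul_pow, e, one_pow])
  have hz1' : (z : F)⁻¹ * (z : F)⁻¹ ≠ 1 := by
    rw [← mul_inv, inv_eq_one.ne]; exact hz1
  by_cases hs : k = 0 ∧ (2 : F) = 0
  · obtain ⟨rfl, h2⟩ := hs
    exact generators_char_two_dim_four hq h2 hz0 hz1 hgen
  have h2k : (2 : F) ≠ 0 ∨ 1 ≤ k := by
    by_cases hk : k = 0
    · exact Or.inl fun e => hs ⟨hk, e⟩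
    · exact Or.inr (by omega)
  by_cases hz2 : (z : F) = -2
  · refine generators_generic hq (inv_ne_zero hz0) hz1' hgen' (fun _ e => ?_) h2k
    have e2 : (1 : F) = -2 * -2 := by
      have := mul_inv_cancel₀ hz0
      rw [e, hz2] at this
      exact this.symm
    have e3 : (z : F) = 1 := by rw [hz2]; linear_combination e2
    exact hz1 (by rw [e3, one_mul])
  · exact generators_generic hq hz0 hz1 hgen (fun _ => hz2) h2k

end Cfsg.Agent.SpGen
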