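import Cfsg.Agent.Lib.ClassicalSimple.Symp

/-!
A criterion for a subgroup of a symplectic group over a field with more than two elements to be
everything: it contains a full root group and a transformation with a one-dimensional fixed space.
-/

set_option autoImplicit false

namespace Cfsg.Agent.SpGen

open Cfsg.Agent.ClassicalSimple

variable {F V : Type*} [Field F] [AddCommGroup V] [Module F V]
  {B : LinearMap.BilinForm F V} (hA : LinearMap.IsAlt B) (H : Subgroup (SpB B))

include hA

/-- The vectors whose whole root group lies in `H`. -/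
def rootCentres : Set V := {x | ∀ α : F, spTransv hA x α ∈ H}

/-- Linked root centres. -/
def Link (x y : V) : Prop := x ∈ rootCentres hA H ∧ y ∈ rootCentres hA H ∧ B x y ≠ 0

variable {hA H}

theorem rootCentres_smul_mem {x : V} (hx : x ∈ rootCentres hA H) (a : F) :
    a • x ∈ rootCentres hA H := fun α => by
  rw [spTransv_scale]; exact hx _

theorem rootCentres_image {g : SpB B} (hg : g ∈ H) {x : V} (hx : x ∈ rootCentres hA H) :
    g • x ∈ rootCentres hA H := fun α => by
  rw [← spTransv_conj]; exact mul_mem (mul_mem hg (hx α)) (inv_mem hg)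

theorem rootCentres_add {x y : V} (hx : x ∈ rootCentres hA H) (hy : y ∈ rootCentres hA H)
    (h : B x y ≠ 0) : x + y ∈ rootCentres hA H := by
  have h1 := rootCentres_image (hy (B x y)⁻¹) hx
  rwa [spTransv_smul, inv_mul_cancel₀ h, one_smul] at h1

theorem Link.symm {x y : V} (h : Link hA H x y) : Link hA H y x :=
  ⟨h.2.1, h.1, fun e => h.2.2 (hA.isRefl _ _ e)⟩

theorem Link.image {g : SpB B} (hg : g ∈ H) {x y : V} (h : Link hA H x y) :
    Link hA H (g • x) (g • y) :=
  ⟨rootCentres_image hg h.1, rootCentres_image hg h.2.1, by rw [form_smul]; exact h.2.2⟩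

variable (hA H) in
/-- Connected by links. -/
def Reach : V → V → Prop := Relation.ReflTransGen (Link hA H)

theorem Reach.symm {x y : V} (h : Reach hA H x y) : Reach hA H y x := by
  induction h with
  | refl => exact Relation.ReflTransGen.refl
  | tail _ h ih => exact Relation.ReflTransGen.head h.symm ih

theorem Reach.image {g : SpB B} (hg : g ∈ H) {x y : V} (h : Reach hA H x y) :
    Reach hA H (g • x) (g • y) :=
  h.lift (fun z => g • z) fun _ _ h => h.image hg

theorem Reach.mem {x y : V} (hx : x ∈ rootCentres hA H) (h : Reach hA H x y) :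
    y ∈ rootCentres hA H := by
  induction h with
  | refl => exact hx
  | tail _ h _ => exact h.2.1

/-- Connected centres are at distance at most two. -/
theorem reach_cases {x y : V} (h : Reach hA H x y) :
    x = y ∨ Link hA H x y ∨ ∃ d, Link hA H x d ∧ Link hA H d y := by
  induction h with
  | refl => exact Or.inl rfl
  | @tail b z _ hbz ih =>
    rcases ih with rfl | h1 | ⟨d, h1, h2⟩
    · exact Or.inr (Or.inl hbz)
    · exact Or.inr (Or.inr ⟨b, h1, hbz⟩)
    · by_cases hxb : B x b = 0
      swap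
      · exact Or.inr (Or.inr ⟨b, ⟨h1.1, h2.2.1, hxb⟩, hbz⟩)
      by_cases hdz : B d z = 0
      swap
      · exact Or.inr (Or.inr ⟨d, h1, ⟨h2.1, hbz.2.1, hdz⟩⟩)
      have he := rootCentres_add h2.1 h2.2.1 h2.2.2
      exact Or.inr (Or.inr ⟨d + b, ⟨h1.1, he, by simpa [hxb] using h1.2.2⟩,
        ⟨he, hbz.2.1, by simpa [hdz] using hbz.2.2⟩⟩)

/-- A common neighbour of two orthogonal centres that is not orthogonal to their sum. -/
theorem exists_neighbour (hq : ∀ a : F, ∃ ε : F, ε ≠ 0 ∧ ε ≠ a) {x y d d2 : V}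
    (hxC : x ∈ rootCentres hA H) (hdC : d ∈ rootCentres hA H) (hd2C : d2 ∈ rootCentres hA H)
    (hxy : B x y = 0) (hxd : B x d ≠ 0) (hyd : B y d ≠ 0)
    (hxd2 : B x d2 ≠ 0) (hyd2 : B y d2 = 0) :
    ∃ e, e ∈ rootCentres hA H ∧ B x e ≠ 0 ∧ B y e ≠ 0 ∧ B (x + y) e ≠ 0 := by
  have hyx := hA.isRefl _ _ hxy
  by_cases hzd : B (x + y) d = 0
  swap
  · exact ⟨d, hdC, hxd, hyd, hzd⟩
  obtain ⟨d', hd'C, hxd', hyd', hzd', hd'd2⟩ : ∃ d', d' ∈ rootCentres hA H ∧ B x d' ≠ 0 ∧
      B y d' ≠ 0 ∧ B (x + y) d' = 0 ∧ B d' d2 ≠ 0 := by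
    by_cases hdd : B d d2 = 0
    · exact ⟨d + x, rootCentres_add hdC hxC (fun e' => hxd (hA.isRefl _ _ e')),
        by simpa [hA.self_eq_zero] using hxd, by simpa [hyx] using hyd,
        by simpa [hyx, hA.self_eq_zero] using hzd, by simpa [hdd] using hxd2⟩
    · exact ⟨d, hdC, hxd, hyd, hzd, hdd⟩
  obtain ⟨ε, hε0, hε⟩ := hq (-(B x d' / B x d2))
  refine ⟨d' + ε • d2, rootCentres_add hd'C (rootCentres_smul_mem hd2C ε) ?_, ?_, ?_, ?_⟩
  · simpa [hε0] using hd'd2
  · simp only [map_add, map_smul, smul_eq_mul]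
    intro e'
    apply hε
    field_simp
    linear_combination e'
  · simpa [hyd2] using hyd'
  · rw [map_add, hzd', zero_add]
    simpa [hε0, hyd2] using hxd2

/-- The connected component of a centre, with zero, is closed under addition. -/
theorem reach_add {c : V} (hc : c ∈ rootCentres hA H) (hq : ∀ a : F, ∃ ε : F, ε ≠ 0 ∧ ε ≠ a)
    (hspan : ∀ z : V, z ≠ 0 → ∃ d, Reach hA H c d ∧ B z d ≠ 0) {x y : V}
    (hx : Reach hA H c x) (hy : Reach hA H c y) : x + y = 0 ∨ Reach hA H c (x + y) := by
  by_cases hz0 : x + y = 0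
  · exact Or.inl hz0
  refine Or.inr ?_
  have hxC := hx.mem hc
  have hyC := hy.mem hc
  by_cases hxy : B x y = 0
  swap
  · exact hx.tail ⟨hxC, rootCentres_add hxC hyC hxy, by simpa [hA.self_eq_zero] using hxy⟩
  have hyx := hA.isRefl _ _ hxy
  -- a common neighbour that is not orthogonal to the sum
  suffices key : ∃ e, e ∈ rootCentres hA H ∧ B x e ≠ 0 ∧ B y e ≠ 0 ∧ B (x + y) e ≠ 0 by
    obtain ⟨e, he, hxe, hye, hze⟩ := key
    have h1 := rootCentres_add hxC he hxe
    have h2 := rootCentres_add h1 hyC (by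
      simpa [hxy] using fun e' => hye (hA.isRefl _ _ e'))
    have h3 := rootCentres_add h2 (rootCentres_smul_mem he (-1)) (by
      intro e'
      simp only [map_add, map_smul, LinearMap.add_apply, hA.self_eq_zero, smul_eq_mul] at e'
      apply hze
      rw [map_add, LinearMap.add_apply]
      linear_combination -e')
    have h4 : x + y ∈ rootCentres hA H := by
      have e' : x + e + y + (-1 : F) • e = x + y := by module
      rwa [e'] at h3
    exact (hx.tail ⟨hxC, he, hxe⟩).tail
      ⟨he, h4, fun e' => hze (hA.isRefl _ _ e')⟩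
  obtain ⟨d2, hd2, hzd2⟩ := hspan _ hz0
  have hd2C := hd2.mem hc
  obtain ⟨d, hdC, hxd, hyd⟩ : ∃ d, d ∈ rootCentres hA H ∧ B x d ≠ 0 ∧ B y d ≠ 0 := by
    rcases reach_cases (hx.symm.trans hy) with rfl | h | ⟨d, h1, h2⟩
    · refine ⟨d2, hd2C, ?_, ?_⟩ <;> (intro e'; exact hzd2 (by simp [e']))
    · exact absurd hxy h.2.2
    · exact ⟨d, h1.2.1, h1.2.2, h2.symm.2.2⟩
  by_cases hxd2 : B x d2 = 0
  · have hyd2 : B y d2 ≠ 0 := fun e' => hzd2 (by simp [hxd2, e'])
    obtain ⟨e, he, h1, h2, h3⟩ :=
      exists_neighbour hq hyC hdC hd2C hyx hyd hxd hyd2 hxd2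
    exact ⟨e, he, h2, h1, by rwa [add_comm] at h3⟩
  · by_cases hyd2 : B y d2 = 0
    · exact exists_neighbour hq hxC hdC hd2C hxy hxd hyd hxd2 hyd2
    · exact ⟨d2, hd2C, hxd2, hyd2, hzd2⟩

/-- A subgroup containing a full root group, linked along its generators, and an element with a
one-dimensional fixed space is the whole symplectic group. -/
theorem eq_top_of_rootCentre [FiniteDimensional F V] (hN : B.Nondegenerate)
    (hq : ∀ a : F, ∃ ε : F, ε ≠ 0 ∧ ε ≠ a) {u : SpB B} (hu : u ∈ H) {e0 c : V}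
    (hfix : ∀ x : V, u • x = x → ∃ a : F, x = a • e0)
    (hnil : ∀ x : V, ∃ k : ℕ, (fun z => u • z - z)^[k] x = 0)
    (hc : c ∈ rootCentres hA H) (S : Set (SpB B)) (hS : H = Subgroup.closure S)
    (hlink : ∀ s ∈ S, Reach hA H c (s • c))
    (hh : ∃ h ∈ H, B e0 (h • c) ≠ 0) : H = ⊤ := by
  have horb : ∀ g ∈ H, Reach hA H c (g • c) := by
    have key : ∀ g ∈ Subgroup.closure S, g ∈ H ∧ Reach hA H c (g • c) := by
      intro g hg
      induction hg using Subgroup.closure_induction with
      | mem s hs => exact ⟨hS ▸ Subgroup.subset_closure hs, hlink s hs⟩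
      | one => exact ⟨one_mem _, by rw [one_smul]; exact Relation.ReflTransGen.refl⟩
      | mul a b _ _ iha ihb =>
        refine ⟨mul_mem iha.1 ihb.1, ?_⟩
        rw [mul_smul]
        exact iha.2.trans (ihb.2.image iha.1)
      | inv a _ iha =>
        refine ⟨inv_mem iha.1, ?_⟩
        have := (iha.2.image (inv_mem iha.1)).symm
        rwa [inv_smul_smul] at this
    exact fun g hg => (key g (hS ▸ hg)).2
  have hspan : ∀ z : V, z ≠ 0 → ∃ d, Reach hA H c d ∧ B z d ≠ 0 := by
    intro z hz
    by_contra hcon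
    push Not at hcon
    let P : V → Prop := fun z => ∀ g ∈ H, B z (g • c) = 0
    have hP : P z := fun g hg => hcon _ (horb g hg)
    have hPu : ∀ z, P z → P (u • z - z) := fun z hz g hg => by
      have h1 : B (u • z) (g • c) = B z ((u⁻¹ * g) • c) := by
        rw [← form_smul u z ((u⁻¹ * g) • c), ← mul_smul, mul_inv_cancel_left]
      simp [h1, hz g hg, hz _ (mul_mem (inv_mem hu) hg)]
    have key : ∀ (k : ℕ) (z : V), P z → (fun z => u • z - z)^[k] z = 0 → z = 0 := by
      intro k
      induction k with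
      | zero => exact fun z _ h => h
      | succ k ih =>
        intro z hz h
        have h1 := ih _ (hPu z hz) h
        obtain ⟨a, rfl⟩ := hfix z (sub_eq_zero.1 h1)
        obtain ⟨g, hg, hgc⟩ := hh
        have := hz g hg
        simp only [map_smul, LinearMap.smul_apply, smul_eq_mul, mul_eq_zero] at this
        rw [this.resolve_right hgc, zero_smul]
    obtain ⟨k, hk⟩ := hnil z
    exact hz (key k z hP hk)
  let W : Submodule F V :=
    { carrier := {x | x = 0 ∨ Reach hA H c x}
      zero_mem' := Or.inl rfl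
      add_mem' := by
        rintro x y (rfl | hx) hy
        · rwa [zero_add]
        rcases hy with rfl | hy
        · rw [add_zero]; exact Or.inr hx
        · exact reach_add hc hq hspan hx hy
      smul_mem' := by
        rintro a x (rfl | hx)
        · exact Or.inl (smul_zero a)
        by_cases ha : a = 0
        · exact Or.inl (by rw [ha, zero_smul])
        by_cases hx0 : x = 0
        · exact Or.inl (by rw [hx0, smul_zero])
        obtain ⟨d, hd, hxd⟩ := hspan x hx0
        have hdC := hd.mem hc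
        have hxC := hx.mem hc
        exact Or.inr ((hx.tail ⟨hxC, hdC, hxd⟩).tail
          ⟨hdC, rootCentres_smul_mem hxC a, by
            simpa [ha] using fun e' => hxd (hA.isRefl _ _ e')⟩) }
  have hW : W = ⊤ := by
    by_contra hne
    obtain ⟨f, hf, hfW⟩ := Submodule.exists_dual_map_eq_bot_of_lt_top
      (lt_of_le_of_ne le_top hne) inferInstance
    let z := (LinearMap.BilinForm.toDual B hN).symm f
    have hz : ∀ w, B z w = f w := fun w => LinearMap.BilinForm.apply_toDual_symm_apply f w
    obtain ⟨d, hd, hzd⟩ := hspan z fun e => hf (LinearMap.ext fun w => by rw [← hz, e]; simp)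
    refine hzd ?_
    rw [hz]
    have : f d ∈ W.map f := Submodule.mem_map_of_mem (Or.inr hd)
    rwa [hfW, Submodule.mem_bot] at this
  rw [eq_top_iff, ← transvGroup_eq_top hA hN, spTransvGroup, Subgroup.closure_le]
  rintro _ ⟨⟨x, α⟩, rfl⟩
  have hx : x ∈ W := hW ▸ Submodule.mem_top
  rcases hx with rfl | hx
  · have : spTransv hA (0 : V) α = 1 := SpB.ext' fun y => by simp
    simp only [this]
    exact one_mem _
  · exact hx.mem hc α

end Cfsg.Agent.SpGen
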