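import Cfsg.Agent.Lib.SpGen.Triple
import Cfsg.Agent.Lib.ClassicalSimple.SympMatrix
import Cfsg.Agent.Lib.Fusion.SympBlocks

/-!
A regular unipotent element of the symplectic group in block coordinates.
-/

set_option autoImplicit false

namespace Cfsg.Agent.SpGen

open Matrix Cfsg.Agent.ClassicalSimple Cfsg.Agent.Fusion.SympBlocks

variable {k : ℕ} {F : Type*} [Field F]

/-- The form. -/
local notation "BB" => sympBilin (k + 2) F

/-- A vector of coordinates extended by zero. -/
def ext0 {n : ℕ} (a : Fin n → F) (i : ℕ) : F := if h : i < n then a ⟨i, h⟩ else 0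

@[simp] theorem ext0_val {n : ℕ} (a : Fin n → F) (i : Fin n) : ext0 a i.1 = a i := by
  simp [ext0]

theorem ext0_ge {n : ℕ} (a : Fin n → F) {i : ℕ} (h : n ≤ i) : ext0 a i = 0 := by
  simp [ext0, Nat.not_lt.2 h]

theorem ext0_single {n : ℕ} (j : Fin n) (i : ℕ) :
    ext0 (Pi.single j (1 : F)) i = if i = j.1 then 1 else 0 := by
  unfold ext0
  split_ifs with h1 h2
  · rw [show (⟨i, h1⟩ : Fin n) = j from Fin.ext h2, Pi.single_eq_same]
  · rw [Pi.single_eq_of_ne]; exact fun e => h2 (congrArg Fin.val e)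
  · omega
  · rfl

variable (k F) in
/-- The upper bidiagonal matrix. -/
def bidiag : Matrix (Fin (k + 2)) (Fin (k + 2)) F :=
  Matrix.of fun i j => if j.1 = i.1 then 1 else if j.1 = i.1 + 1 then 1 else 0

theorem bidiag_mulVec (a : Fin (k + 2) → F) (i : Fin (k + 2)) :
    (bidiag k F *ᵥ a) i = a i + ext0 a (i.1 + 1) := by
  have e : ∀ j, bidiag k F i j * a j = (if j = i then a j else 0) +
      (if j.1 = i.1 + 1 then a j else 0) := by
    intro j
    simp only [bidiag, Matrix.of_apply, Fin.ext_iff]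
    split_ifs with h1 h2 <;> first | omega | simp
  rw [Matrix.mulVec, dotProduct]
  simp only [e, Finset.sum_add_distrib, Finset.sum_ite_eq', Finset.mem_univ, if_true]
  congr 1
  unfold ext0
  split_ifs with h
  · have e2 : ∀ j : Fin (k + 2), (j.1 = i.1 + 1) ↔ j = ⟨i.1 + 1, h⟩ := fun j => by simp [Fin.ext_iff]
    simp [e2]
  · exact Finset.sum_eq_zero fun j _ => if_neg (by omega)

theorem bidiag_transpose_mulVec (b : Fin (k + 2) → F) (i : Fin (k + 2)) :
    ((bidiag k F)ᵀ *ᵥ b) i = b i + (if i.1 = 0 then 0 else ext0 b (i.1 - 1)) := by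
  have e : ∀ j, (bidiag k F)ᵀ i j * b j = (if j = i then b j else 0) +
      (if i.1 = j.1 + 1 then b j else 0) := by
    intro j
    simp only [bidiag, Matrix.transpose_apply, Matrix.of_apply, Fin.ext_iff]
    split_ifs with h1 h2 <;> first | omega | simp
  rw [Matrix.mulVec, dotProduct]
  simp only [e, Finset.sum_add_distrib, Finset.sum_ite_eq', Finset.mem_univ, if_true]
  congr 1
  split_ifs with h
  · exact Finset.sum_eq_zero fun j _ => if_neg (by omega)
  · have hlt : i.1 - 1 < k + 2 := by omega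
    have e2 : ∀ j : Fin (k + 2), (i.1 = j.1 + 1) ↔ j = ⟨i.1 - 1, hlt⟩ := fun j => by
      simp [Fin.ext_iff]; omega
    simp [e2, ext0, hlt]

theorem bidiag_upper : (bidiag k F).BlockTriangular id := fun i j h => by
  simp only [id_eq, Fin.lt_def] at h
  simp only [bidiag, Matrix.of_apply]
  split_ifs <;> first | omega | rfl

theorem bidiag_det : (bidiag k F).det = 1 := by
  rw [det_of_isUpperTriangular bidiag_upper]
  exact Finset.prod_eq_one fun i _ => by simp [bidiag]

variable (k F) in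
/-- The bidiagonal matrix as an invertible matrix. -/
noncomputable def bidiagGL : GL (Fin (k + 2)) F :=
  GeneralLinearGroup.mkOfDetNeZero (bidiag k F) (by rw [bidiag_det]; exact one_ne_zero)

@[simp] theorem bidiagGL_coe : (bidiagGL k F : Matrix (Fin (k + 2)) (Fin (k + 2)) F) = bidiag k F :=
  rfl

variable (k F) in
/-- The inverse transpose of the bidiagonal matrix. -/
noncomputable def bidiagDual : Matrix (Fin (k + 2)) (Fin (k + 2)) F :=
  (((bidiagGL k F)⁻¹ : GL (Fin (k + 2)) F) : Matrix (Fin (k + 2)) (Fin (k + 2)) F)ᵀ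

theorem transpose_mul_dual : (bidiag k F)ᵀ * bidiagDual k F = 1 := by
  rw [bidiagDual, ← transpose_mul, ← bidiagGL_coe, Units.inv_mul, transpose_one]

theorem dual_mul_transpose : bidiagDual k F * (bidiag k F)ᵀ = 1 := by
  rw [bidiagDual, ← transpose_mul, ← bidiagGL_coe, Units.mul_inv, transpose_one]

theorem dual_mulVec_eq {b b' : Fin (k + 2) → F} (h : (bidiag k F)ᵀ *ᵥ b' = b) :
    bidiagDual k F *ᵥ b = b' := by
  rw [← h, mulVec_mulVec, dual_mul_transpose, one_mulVec]

theorem transpose_dual_mulVec (b : Fin (k + 2) → F) :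
    (bidiag k F)ᵀ *ᵥ (bidiagDual k F *ᵥ b) = b := by
  rw [mulVec_mulVec, transpose_mul_dual, one_mulVec]

variable (k) in
/-- The last index. -/
def lastIdx : Fin (k + 2) := ⟨k + 1, by omega⟩

theorem bidiag_single (j : Fin (k + 2)) (i : Fin (k + 2)) :
    (bidiag k F *ᵥ Pi.single j (1 : F)) i = if i.1 = j.1 ∨ i.1 + 1 = j.1 then 1 else 0 := by
  rw [bidiag_mulVec, ← ext0_val (Pi.single j (1 : F)) i, ext0_single, ext0_single]
  split_ifs <;> first | omega | simp

theorem dual_single_last : bidiagDual k F *ᵥ Pi.single (lastIdx k) (1 : F) =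
    Pi.single (lastIdx k) 1 := by
  refine dual_mulVec_eq (funext fun i => ?_)
  rw [bidiag_transpose_mulVec, ext0_single]
  have h2 := i.2
  rw [if_neg (show ¬ i.1 - 1 = (lastIdx k).1 by show ¬ i.1 - 1 = k + 1; omega)]
  simp

/-- A symmetric outer product. -/
theorem outer_symm (i : Fin (k + 2)) (s : F) :
    (Matrix.single i i s)ᵀ = Matrix.single i i s := Matrix.transpose_single ..

variable (k F) in
/-- The regular unipotent element. -/
noncomputable def regMat : Matrix.symplecticGroup (Fin (k + 2)) F :=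
  lev (bidiagGL k F) * sh (Matrix.single (lastIdx k) (lastIdx k) (1 : F)) (outer_symm _ _)

theorem sh_mulVec {n : ℕ} {S : Matrix (Fin n) (Fin n) F} (hS : Sᵀ = S) (a b : Fin n → F) :
    (sh S hS).1 *ᵥ Sum.elim a b = Sum.elim (a + S *ᵥ b) b := by
  rw [show (sh S hS).1 = fromBlocks 1 S 0 1 from rfl, fromBlocks_mulVec]
  simp [Sum.elim_comp_inl, Sum.elim_comp_inr]

theorem lev_mulVec {n : ℕ} (A : GL (Fin n) F) (a b : Fin n → F) :
    (lev A).1 *ᵥ Sum.elim a b = Sum.elim ((A : Matrix (Fin n) (Fin n) F) *ᵥ a)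
      (((A⁻¹ : GL (Fin n) F) : Matrix (Fin n) (Fin n) F)ᵀ *ᵥ b) := by
  rw [show (lev A).1 = fromBlocks (A : Matrix (Fin n) (Fin n) F) 0 0
    ((A⁻¹ : GL (Fin n) F) : Matrix (Fin n) (Fin n) F)ᵀ from rfl, fromBlocks_mulVec]
  simp [Sum.elim_comp_inl, Sum.elim_comp_inr]

theorem single_diag_mulVec (i : Fin (k + 2)) (s : F) (b : Fin (k + 2) → F) :
    Matrix.single i i s *ᵥ b = (s * b i) • Pi.single i 1 := by
  ext j
  by_cases h : j = i
  · subst h; simp [Matrix.mulVec, dotProduct, Matrix.single_apply]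
  · simp [Matrix.mulVec, dotProduct, Matrix.single_apply, h, Ne.symm h]

variable (k F) in
/-- The regular unipotent element as an isometry. -/
noncomputable def regB : SpB BB := symplecticEquiv (regMat k F)

theorem regB_smul (a b : Fin (k + 2) → F) :
    regB k F • Sum.elim a b =
      Sum.elim (bidiag k F *ᵥ (a + b (lastIdx k) • Pi.single (lastIdx k) 1)) (bidiagDual k F *ᵥ b) := by
  rw [regB, symplecticEquiv_smul, regMat, Submonoid.coe_mul, ← mulVec_mulVec, sh_mulVec,
    single_diag_mulVec, one_mul, lev_mulVec]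
  rfl

theorem form_elim (a b a' b' : Fin (k + 2) → F) :
    BB (Sum.elim a b) (Sum.elim a' b') = b ⬝ᵥ a' - a ⬝ᵥ b' := by
  rw [sympBilin_apply, sympForm, Matrix.J, fromBlocks_mulVec]
  simp [Sum.elim_comp_inl, Sum.elim_comp_inr, dotProduct, Fintype.sum_sum_type, Matrix.neg_mulVec]
  ring

omit [Field F] in
theorem exists_elim (x : Fin (k + 2) ⊕ Fin (k + 2) → F) : ∃ a b, x = Sum.elim a b :=
  ⟨x ∘ Sum.inl, x ∘ Sum.inr, (Sum.elim_comp_inl_inr x).symm⟩

variable (k F) in
/-- The vector `e_i`. -/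
def eVec (i : Fin (k + 2)) : Fin (k + 2) ⊕ Fin (k + 2) → F := Sum.elim (Pi.single i 1) 0

/-- Vectors fixed by the regular unipotent. -/
theorem regB_fixed (x : Fin (k + 2) ⊕ Fin (k + 2) → F) (h : regB k F • x = x) :
    ∃ c : F, x = c • eVec k F 0 := by
  obtain ⟨a, b, rfl⟩ := exists_elim x
  rw [regB_smul, Sum.elim_eq_iff] at h
  obtain ⟨h1, h2⟩ := h
  have hb : ∀ i : Fin (k + 2), i.1 < k + 1 → b i = 0 := by
    intro i hi
    have e := congrFun (transpose_dual_mulVec b) ⟨i.1 + 1, by omega⟩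
    rw [h2, bidiag_transpose_mulVec, if_neg (Nat.succ_ne_zero _)] at e
    simpa using e
  set a2 := a + b (lastIdx k) • Pi.single (lastIdx k) (1 : F) with ha2
  have hL : b (lastIdx k) = 0 := by
    have e := congrFun h1 (lastIdx k)
    rw [bidiag_mulVec, ext0_ge _ (by simp [lastIdx])] at e
    simpa [ha2] using e
  have hb0 : b = 0 := funext fun i => by
    by_cases hi : i.1 < k + 1
    · exact hb i hi
    · rw [show i = lastIdx k from Fin.ext (by simp [lastIdx]; omega), hL]; rfl
  have ha : ∀ i : Fin (k + 2), i ≠ 0 → a i = 0 := by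
    intro i hi
    have hi0 : i.1 ≠ 0 := fun e => hi (Fin.ext e)
    have e := congrFun h1 ⟨i.1 - 1, by omega⟩
    rw [bidiag_mulVec, ha2, hL, zero_smul, add_zero] at e
    have e1 : i.1 - 1 + 1 = i.1 := by omega
    simpa [e1] using e
  refine ⟨a 0, ?_⟩
  subst hb0
  ext (i | i)
  · by_cases hi : i = 0
    · subst hi; simp [eVec]
    · simp [eVec, hi, ha i hi]
  · simp [eVec]

theorem bidiag_sub_one_nilpotent : IsNilpotent (bidiag k F - 1) := by
  refine ⟨k + 2, ?_⟩
  have key : ∀ (p : ℕ) (i j : Fin (k + 2)), j.1 < i.1 + p →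
      ((bidiag k F - 1) ^ p) i j = 0 := by
    intro p
    induction p with
    | zero => intro i j h; rw [pow_zero, one_apply_ne]; rintro rfl; omega
    | succ p ih =>
      intro i j h
      rw [pow_succ, Matrix.mul_apply]
      refine Finset.sum_eq_zero fun l _ => ?_
      by_cases hl : l.1 < i.1 + p
      · rw [ih i l hl, zero_mul]
      · have : (bidiag k F - 1) l j = 0 := by
          simp only [Matrix.sub_apply, bidiag, Matrix.of_apply, Matrix.one_apply, Fin.ext_iff]
          split_ifs <;> first | omega | simp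
        rw [this, mul_zero]
  ext i j
  exact key _ i j (by omega)

theorem regMat_nilpotent :
    IsNilpotent (((regMat k F).1 : Matrix (Fin (k + 2) ⊕ Fin (k + 2)) (Fin (k + 2) ⊕ Fin (k + 2)) F) - 1) := by
  set Ai : Matrix (Fin (k + 2)) (Fin (k + 2)) F :=
    (((bidiagGL k F)⁻¹ : GL (Fin (k + 2)) F) : Matrix (Fin (k + 2)) (Fin (k + 2)) F) with hAi
  have h1 : bidiag k F * Ai = 1 := by rw [hAi, ← bidiagGL_coe, Units.mul_inv]
  have h2 : Ai * bidiag k F = 1 := by rw [hAi, ← bidiagGL_coe, Units.inv_mul]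
  have hcomm : Commute (-Ai) (bidiag k F - 1) :=
    (Commute.sub_right (show Ai * bidiag k F = bidiag k F * Ai by rw [h1, h2])
      (Commute.one_right _)).neg_left
  have hAi' : IsNilpotent (Ai - 1) := by
    have e : Ai - 1 = -Ai * (bidiag k F - 1) := by rw [mul_sub, neg_mul, h2, mul_one]; abel
    rw [e]
    exact hcomm.isNilpotent_mul_left bidiag_sub_one_nilpotent
  have hD : IsNilpotent (Aiᵀ - 1) := by
    obtain ⟨p, hp⟩ := hAi'
    exact ⟨p, by rw [← transpose_one, ← transpose_sub, ← transpose_pow, hp, transpose_zero]⟩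
  obtain ⟨p, hp⟩ := bidiag_sub_one_nilpotent (k := k) (F := F)
  obtain ⟨r, hr⟩ := hD
  have hval : ((regMat k F).1 : Matrix (Fin (k + 2) ⊕ Fin (k + 2)) (Fin (k + 2) ⊕ Fin (k + 2)) F) - 1 =
      fromBlocks (bidiag k F - 1) (bidiag k F * Matrix.single (lastIdx k) (lastIdx k) (1 : F)) 0
        (Aiᵀ - 1) := by
    rw [regMat, Submonoid.coe_mul,
      show (lev (bidiagGL k F)).1 = fromBlocks (bidiag k F) 0 0 Aiᵀ from rfl,
      show (sh (Matrix.single (lastIdx k) (lastIdx k) (1 : F)) (outer_symm _ _)).1 =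
        fromBlocks 1 (Matrix.single (lastIdx k) (lastIdx k) (1 : F)) 0 1 from rfl,
      fromBlocks_multiply, ← fromBlocks_one, sub_eq_add_neg, fromBlocks_neg, fromBlocks_add]
    simp [sub_eq_add_neg]
  rw [hval]
  set X := bidiag k F - 1
  set Z := Aiᵀ - 1
  set Y := bidiag k F * Matrix.single (lastIdx k) (lastIdx k) (1 : F)
  have hpow : ∀ q : ℕ, ∃ Q, (fromBlocks X Y 0 Z) ^ q = fromBlocks (X ^ q) Q 0 (Z ^ q) := by
    intro q
    induction q with
    | zero => exact ⟨0, by simp⟩
    | succ q ih =>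
      obtain ⟨Q, hQ⟩ := ih
      exact ⟨X ^ q * Y + Q * Z, by rw [pow_succ, hQ, fromBlocks_multiply]; simp [pow_succ]⟩
  obtain ⟨Q, hQ⟩ := hpow (p + r)
  refine ⟨(p + r) * 2, ?_⟩
  rw [pow_mul, hQ, pow_add X, hp, pow_add Z, hr, pow_two, fromBlocks_multiply]
  simp

theorem regB_nil (x : Fin (k + 2) ⊕ Fin (k + 2) → F) :
    ∃ q : ℕ, (fun z => regB k F • z - z)^[q] x = 0 := by
  obtain ⟨q, hq⟩ := regMat_nilpotent (k := k) (F := F)
  refine ⟨q, ?_⟩
  have key : ∀ p : ℕ, (fun z => regB k F • z - z)^[p] x =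
      (((regMat k F).1 : Matrix (Fin (k + 2) ⊕ Fin (k + 2)) (Fin (k + 2) ⊕ Fin (k + 2)) F) - 1) ^ p *ᵥ x := by
    intro p
    induction p with
    | zero => simp
    | succ p ih =>
      rw [Function.iterate_succ_apply', ih, pow_succ', ← mulVec_mulVec, sub_mulVec, one_mulVec]
      simp only [regB, symplecticEquiv_smul]
  rw [key, hq, zero_mulVec]

theorem finrank_ker_comp_le {W : Type*} [AddCommGroup W] [Module F W] [FiniteDimensional F W]
    (f g : W →ₗ[F] W) : Module.finrank F (LinearMap.ker (g ∘ₗ f)) ≤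
      Module.finrank F (LinearMap.ker f) + Module.finrank F (LinearMap.ker g) := by
  set K := LinearMap.ker (g ∘ₗ f)
  have h1 := (f.domRestrict K).finrank_range_add_finrank_ker
  have h2 : Module.finrank F (LinearMap.range (f.domRestrict K)) ≤
      Module.finrank F (LinearMap.ker g) := Submodule.finrank_mono (by
    rintro _ ⟨z, rfl⟩
    exact z.2)
  have h3 : Module.finrank F (LinearMap.ker (f.domRestrict K)) ≤
      Module.finrank F (LinearMap.ker f) :=
    LinearMap.finrank_le_finrank_of_injective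
      (f := (K.subtype.comp (LinearMap.ker (f.domRestrict K)).subtype).codRestrict (LinearMap.ker f)
        (fun z => z.2))
      (fun z z' h => Subtype.ext (Subtype.ext (congrArg (fun w => w.1) h)))
  omega

theorem regMat_pow_ne_zero :
    (((regMat k F).1 : Matrix (Fin (k + 2) ⊕ Fin (k + 2)) (Fin (k + 2) ⊕ Fin (k + 2)) F) - 1) ^ (2 * (k + 2) - 1) ≠ 0 := by
  set N := ((regMat k F).1 : Matrix (Fin (k + 2) ⊕ Fin (k + 2)) (Fin (k + 2) ⊕ Fin (k + 2)) F) - 1 with hN
  have hker : Module.finrank F (LinearMap.ker (toLin' N)) ≤ 1 := by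
    refine (Submodule.finrank_mono (show LinearMap.ker (toLin' N) ≤
      Submodule.span F {eVec k F 0} from fun x hx => ?_)).trans
      ((finrank_span_le_card _).trans (by simp))
    rw [LinearMap.mem_ker, toLin'_apply, hN, sub_mulVec, one_mulVec, sub_eq_zero] at hx
    obtain ⟨c, rfl⟩ := regB_fixed x (by rw [regB, symplecticEquiv_smul, hx])
    exact Submodule.smul_mem _ _ (Submodule.mem_span_singleton_self _)
  have key : ∀ p : ℕ, Module.finrank F (LinearMap.ker (toLin' (N ^ p))) ≤ p := by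
    intro p
    induction p with
    | zero => simp [Matrix.toLin'_one]
    | succ p ih =>
      rw [pow_succ', toLin'_mul]
      have := finrank_ker_comp_le (toLin' (N ^ p)) (toLin' N)
      omega
  intro h
  have h2 := key (2 * (k + 2) - 1)
  rw [h, map_zero, LinearMap.ker_zero, finrank_top, Module.finrank_fintype_fun_eq_card,
    Fintype.card_sum, Fintype.card_fin] at h2
  omega

theorem sh_diag_eq_transv (i : Fin (k + 2)) (s : F) :
    symplecticEquiv (sh (Matrix.single i i s) (outer_symm i s)) =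
      spTransv sympBilin_isAlt (eVec k F i) s := SpB.ext' fun x => by
  obtain ⟨a, b, rfl⟩ := exists_elim x
  rw [symplecticEquiv_smul, sh_mulVec, single_diag_mulVec, spTransv_smul, eVec, form_elim]
  ext (j | j) <;> simp [Pi.single_apply]

/-- Conjugating the regular unipotent by a Siegel element. -/
theorem conj_sh_regMat {S : Matrix (Fin (k + 2)) (Fin (k + 2)) F} (hS : Sᵀ = S) :
    sh (-S) (by rw [transpose_neg, hS]) * regMat k F * (sh (-S) (by rw [transpose_neg, hS]))⁻¹ *
      (regMat k F)⁻¹ = sh (-S + bidiag k F * S * (bidiag k F)ᵀ)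
        (by rw [transpose_add, transpose_neg, hS, congr_symm hS]) := by
  have hi : (sh (-S) (by rw [transpose_neg, hS]))⁻¹ = sh S hS := by
    rw [sh_inv]; exact sh_congr _ _ (neg_neg S)
  rw [hi, regMat]
  set E := sh (Matrix.single (lastIdx k) (lastIdx k) (1 : F)) (outer_symm _ _)
  have hES : E * sh S hS * E⁻¹ = sh S hS := by
    rw [mul_inv_eq_iff_eq_mul, sh_mul, sh_mul]
    exact sh_congr _ _ (add_comm _ _)
  have hsplit : sh (-S) (by rw [transpose_neg, hS]) * (lev (bidiagGL k F) * E) * sh S hS *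
      (lev (bidiagGL k F) * E)⁻¹ = sh (-S) (by rw [transpose_neg, hS]) *
      (lev (bidiagGL k F) * (E * sh S hS * E⁻¹) * (lev (bidiagGL k F))⁻¹) := by group
  rw [hsplit, hES, lev_conj_sh, sh_mul]
  exact sh_congr _ _ rfl

/-- The matrix statement follows from the statement for isometries. -/
theorem exists_generators_of {g h : SpB BB}
    (hgen : Subgroup.closure ({regB k F, g * regB k F * g⁻¹, h * regB k F * h⁻¹} : Set (SpB BB)) = ⊤) :
    ∃ u g h : Matrix.symplecticGroup (Fin (k + 2)) F,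
      IsNilpotent ((u : Matrix (Fin (k + 2) ⊕ Fin (k + 2)) (Fin (k + 2) ⊕ Fin (k + 2)) F) - 1) ∧
      ((u : Matrix (Fin (k + 2) ⊕ Fin (k + 2)) (Fin (k + 2) ⊕ Fin (k + 2)) F) - 1) ^
        (2 * (k + 2) - 1) ≠ 0 ∧
      Subgroup.closure ({u, g * u * g⁻¹, h * u * h⁻¹} : Set (Matrix.symplecticGroup (Fin (k + 2)) F)) = ⊤ := by
  refine ⟨regMat k F, symplecticEquiv.symm g, symplecticEquiv.symm h, regMat_nilpotent,
    regMat_pow_ne_zero, ?_⟩
  apply Subgroup.map_injective (f := symplecticEquiv.toMonoidHom) symplecticEquiv.injective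
  rw [MonoidHom.map_closure, Subgroup.map_top_of_surjective symplecticEquiv.toMonoidHom
    symplecticEquiv.surjective, ← hgen]
  simp [Set.image_insert_eq, regB]

end Cfsg.Agent.SpGen
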