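import Cfsg.Agent.Lib.SpGen.MainLemma
import Mathlib.FieldTheory.Finite.Basic

/-!
Transitivity on suitable triples of vectors, and a criterion for a full root group.
-/

set_option autoImplicit false

namespace Cfsg.Agent.SpGen

open Cfsg.Agent.ClassicalSimple

variable {F V : Type*} [Field F] [AddCommGroup V] [Module F V]
  {B : LinearMap.BilinForm F V} (hA : LinearMap.IsAlt B)
include hA

/-- Witt's extension theorem for triples whose first two vectors form a hyperbolic pair. -/
theorem exists_map_triple (hN : B.Nondegenerate) {p q a p' q' b : V} (h : B p q ≠ 0)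
    (h' : B p' q' = B p q) (hpa : B p' b = B p a) (hqa : B q' b = B q a)
    (ha : ∀ s t : F, a ≠ s • p + t • q) (hb : ∀ s t : F, b ≠ s • p' + t • q') :
    ∃ g : SpB B, g • p = p' ∧ g • q = q' ∧ g • a = b := by
  set μ := B p q
  obtain ⟨g0, -, hg0p, hg0q⟩ := transvGroup_trans_pair hA hN (u := p) (v := μ⁻¹ • q) (u' := p')
    (v' := μ⁻¹ • q') (by simp [μ, h]) (by simp [h', h])
  rw [smul_comm g0] at hg0q
  replace hg0q : g0 • q = q' := smul_right_injective V (inv_ne_zero h) hg0q
  set a1 := g0 • a with ha1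
  have hpa1 : B p' a1 = B p' b := by rw [hpa, ← hg0p, ha1, form_smul]
  have hqa1 : B q' a1 = B q' b := by rw [hqa, ← hg0q, ha1, form_smul]
  by_cases hab : B a1 b = 0
  swap
  · obtain ⟨g1, -, hg1, hfix⟩ := exists_transv_map hA hab
    refine ⟨g1 * g0, ?_, ?_, by rw [mul_smul, ← ha1, hg1]⟩
    · rw [mul_smul, hg0p, hfix p' (by simp [hpa1])]
    · rw [mul_smul, hg0q, hfix q' (by simp [hqa1])]
  -- projection to the orthogonal of the plane
  let π : V → V := fun x => x - (B x q' / μ) • p' + (B x p' / μ) • q'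
  have hqp : B q' p' = -μ := by rw [← h', LinearMap.IsAlt.neg hA]
  have hπp : ∀ x, B (π x) p' = 0 := fun x => by
    simp only [π, map_add, map_sub, map_smul, LinearMap.add_apply, LinearMap.sub_apply,
      LinearMap.smul_apply, hA.self_eq_zero, hqp, smul_eq_mul]
    field_simp
    ring
  have hπq : ∀ x, B (π x) q' = 0 := fun x => by
    simp only [π, map_add, map_sub, map_smul, LinearMap.add_apply, LinearMap.sub_apply,
      LinearMap.smul_apply, hA.self_eq_zero, h', smul_eq_mul]
    field_simp
    ring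
  have hπeq : ∀ x y, B x (π y) = B (π x) (π y) := fun x y => by
    have key : ∀ w, B p' w = 0 → B q' w = 0 → B (π x) w = B x w := fun w e1 e2 => by
      simp [π, e1, e2]
    exact (key _ (hA.isRefl _ _ (hπp y)) (hA.isRefl _ _ (hπq y))).symm
  have hne : ∀ x, (∀ s t : F, x ≠ s • p' + t • q') → π x ≠ 0 := fun x hx e => by
    refine hx (B x q' / μ) (-(B x p' / μ)) ?_
    have e' : x = (B x q' / μ) • p' + (-(B x p' / μ)) • q' + π x := by simp only [π]; module
    rwa [e, add_zero] at e'
  have ha1ne : π a1 ≠ 0 := hne _ fun s t e => ha s t (MulAction.injective g0 (by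
    beta_reduce
    rw [smul_add, smul_comm g0, smul_comm g0, hg0p, hg0q, ← ha1, e]))
  obtain ⟨d, hd1, hd2⟩ := exists_B_ne_ne' hN ha1ne (hne b hb)
  have hd1' : B a1 (π d) ≠ 0 := by
    rw [hπeq]
    intro e
    apply hd1
    have e1 : B (π a1) (π d) = B (π a1) d := by
      change B (π a1) (d - (B d q' / μ) • p' + (B d p' / μ) • q') = _
      simp [hπp, hπq]
    rw [← e1, e]
  have hd2' : B b (π d) ≠ 0 := by
    rw [hπeq]
    intro e
    apply hd2
    have e1 : B (π b) (π d) = B (π b) d := by
      change B (π b) (d - (B d q' / μ) • p' + (B d p' / μ) • q') = _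
      simp [hπp, hπq]
    rw [← e1, e]
  have h1 : B a1 (b + π d) ≠ 0 := by simpa [hab] using hd1'
  have h2 : B (b + π d) b ≠ 0 := by
    simpa [hA.self_eq_zero] using fun e => hd2' (hA.isRefl _ _ e)
  obtain ⟨g1, -, hg1, hfix1⟩ := exists_transv_map hA h1
  obtain ⟨g2, -, hg2, hfix2⟩ := exists_transv_map hA h2
  have ep := hA.isRefl _ _ (hπp d)
  have eq' := hA.isRefl _ _ (hπq d)
  refine ⟨g2 * g1 * g0, ?_, ?_, by rw [mul_smul, mul_smul, ← ha1, hg1, hg2]⟩
  · rw [mul_smul, mul_smul, hg0p, hfix1 p' (by simp [hpa1, ep]), hfix2 p' (by simp [ep])]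
  · rw [mul_smul, mul_smul, hg0q, hfix1 q' (by simp [hqa1, eq']), hfix2 q' (by simp [eq'])]

omit [AddCommGroup V] [Module F V] hA in
/-- An additive subgroup closed under multiplication by all squares and non-zero is everything. -/
theorem addSubgroup_eq_top_of_squares [Finite F] (A : AddSubgroup F) {κ : F} (hκ : κ ≠ 0)
    (h : ∀ a : F, a ^ 2 * κ ∈ A) : A = ⊤ := by
  refine eq_top_iff.2 fun x _ => ?_
  by_cases h2 : (2 : F) = 0
  · have : Fintype F := Fintype.ofFinite F
    have hc : ringChar F = 2 := by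
      have hd : (ringChar F) ∣ 2 := ringChar.dvd (by exact_mod_cast h2)
      rcases (Nat.dvd_prime Nat.prime_two).1 hd with h1 | h1
      · exact absurd h1 (CharP.ringChar_ne_one)
      · exact h1
    obtain ⟨r, hr⟩ := FiniteField.isSquare_of_char_two hc (x / κ)
    have := h r
    rwa [sq, ← hr, div_mul_cancel₀ x hκ] at this
  · have e : x = ((x / κ + 1) / 2) ^ 2 * κ - ((x / κ - 1) / 2) ^ 2 * κ := by field_simp; ring
    rw [e]
    exact A.sub_mem (h _) (h _)

variable {H : Subgroup (SpB B)}

/-- The parameters of the transvections with centre `c` in `H`. -/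
def rootParams (H : Subgroup (SpB B)) (c : V) : AddSubgroup F where
  carrier := {α | spTransv hA c α ∈ H}
  zero_mem' := by rw [Set.mem_ofPred_eq, spTransv_zero]; exact one_mem _
  add_mem' := fun h h' => by rw [Set.mem_ofPred_eq, ← spTransv_add]; exact mul_mem h h'
  neg_mem' := fun {a} h => by
    have e : spTransv hA c (-a) = (spTransv hA c a)⁻¹ :=
      eq_inv_of_mul_eq_one_left (by rw [spTransv_add, neg_add_cancel, spTransv_zero])
    rw [Set.mem_ofPred_eq, e]
    exact inv_mem h

/-- A transvection and an element acting on its centre by a primitive scalar give a root group. -/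
theorem mem_rootCentres_of_scale [Finite F] {c : V} {κ l : F} (hκ : κ ≠ 0)
    (ht : spTransv hA c κ ∈ H) (hl : ∀ a : F, a ≠ 0 → ∃ k : ℕ, a = l ^ k) {g : SpB B}
    (hg : g ∈ H) (hgc : g • c = l • c) : c ∈ rootCentres hA H := by
  have hpow : ∀ k : ℕ, (l ^ k) ^ 2 * κ ∈ rootParams hA H c := by
    intro k
    induction k with
    | zero => simpa [rootParams] using ht
    | succ k ih =>
      have h1 : g * spTransv hA c ((l ^ k) ^ 2 * κ) * g⁻¹ ∈ H :=
        mul_mem (mul_mem hg ih) (inv_mem hg)
      rw [spTransv_conj, hgc, spTransv_scale] at h1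
      show spTransv hA c _ ∈ H
      convert h1 using 2
      ring
  have htop : rootParams hA H c = ⊤ := addSubgroup_eq_top_of_squares _ hκ fun a => by
    by_cases ha : a = 0
    · simp [ha]
    · obtain ⟨k, rfl⟩ := hl a ha
      exact hpow k
  exact fun α => (htop ▸ AddSubgroup.mem_top α : α ∈ rootParams hA H c)

/-- Over a field of prime order one non-trivial transvection gives a root group. -/
theorem mem_rootCentres_of_prime [hp : Fact (Nat.card F).Prime] {c : V} {κ : F} (hκ : κ ≠ 0)
    (ht : spTransv hA c κ ∈ H) : c ∈ rootCentres hA H := by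
  rcases AddSubgroup.eq_bot_or_eq_top_of_prime_card (G := F) (rootParams hA H c) with h | h
  · exact absurd (AddSubgroup.mem_bot.1 (h ▸ (show κ ∈ rootParams hA H c from ht))) hκ
  · exact fun α => (h ▸ AddSubgroup.mem_top α : α ∈ rootParams hA H c)

end Cfsg.Agent.SpGen
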