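import Cfsg.Agent.Lib.SpGen.Odd
import Mathlib.LinearAlgebra.SymplecticGroup

/-!
Three conjugates of a regular unipotent generate the symplectic group: the field with two elements.
-/

set_option autoImplicit false

namespace Cfsg.Agent.SpGen

open Matrix Cfsg.Agent.ClassicalSimple Cfsg.Agent.Fusion.SympBlocks

variable {k : ℕ} {F : Type*} [Field F]

local notation "BB" => sympBilin (k + 2) F

theorem eq_zero_or_one_of_card_two [Fintype F] (hq : Fintype.card F = 2) (a : F) :
    a = 0 ∨ a = 1 := by
  classical
  have h : ({0, 1} : Finset F) = Finset.univ :=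
    Finset.eq_univ_of_card _ (by rw [hq, Finset.card_pair zero_ne_one])
  have := h ▸ Finset.mem_univ a
  simpa using this

variable (k F) in
/-- The standard symplectic element interchanging the two halves. -/
noncomputable def jB : SpB BB :=
  symplecticEquiv ⟨Matrix.J (Fin (k + 2)) F, SymplecticGroup.J_mem _ _⟩

theorem jB_smul (a b : Fin (k + 2) → F) : jB k F • Sum.elim a b = Sum.elim (-b) a := by
  rw [jB, symplecticEquiv_smul]
  change (fromBlocks 0 (-1) 1 0 : Matrix (Fin (k + 2) ⊕ Fin (k + 2)) (Fin (k + 2) ⊕ Fin (k + 2)) F)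
    *ᵥ Sum.elim a b = _
  rw [fromBlocks_mulVec]
  simp [Sum.elim_comp_inl, Sum.elim_comp_inr, Matrix.neg_mulVec]

theorem elim_add (a a' b b' : Fin (k + 2) → F) :
    Sum.elim a b + Sum.elim a' b' = Sum.elim (a + a') (b + b') := by
  ext (i | i) <;> rfl

theorem generators_two [Fintype F] (hq : Fintype.card F = 2) (hk : 1 ≤ k) :
    ∃ g h : SpB BB, Subgroup.closure
      ({regB k F, g * regB k F * g⁻¹, h * regB k F * h⁻¹} : Set (SpB BB)) = ⊤ := by
  have hA := sympBilin_isAlt (m := k + 2) (F := F)
  have h01 := eq_zero_or_one_of_card_two (F := F) hq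
  have h2 : (2 : F) = 0 := by
    have := FiniteField.cast_card_eq_zero F
    rw [hq] at this
    exact_mod_cast this
  have hneg : ∀ x : F, -x = x := fun x => by linear_combination (-x) * h2
  have hnegv : ∀ x : Fin (k + 2) → F, -x = x := fun x => funext fun i => hneg (x i)
  have hone : ∀ {a : F}, a ≠ 0 → a = 1 := fun {a} ha => (h01 a).resolve_left ha
  set A := bidiag k F with hAdef
  set D := bidiagDual k F with hDdef
  set L := lastIdx k with hL
  set u := regB k F with hu_def
  -- the second conjugating element
  let two : Fin (k + 2) := ⟨2, by omega⟩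
  let S : Matrix (Fin (k + 2)) (Fin (k + 2)) F :=
    Matrix.single 0 two 1 + Matrix.single 1 1 1 + Matrix.single two 0 1
  have hS : Sᵀ = S := by simp [S, transpose_add]; abel
  have hnS : (-S)ᵀ = -S := by rw [transpose_neg, hS]
  set kw : SpB BB := symplecticEquiv (sh (-S) hnS) with hkw
  refine ⟨jB k F, kw, ?_⟩
  set v := jB k F * u * (jB k F)⁻¹ with hv
  set w := kw * u * kw⁻¹ with hw
  set H := Subgroup.closure ({u, v, w} : Set (SpB BB))
  have huH : u ∈ H := Subgroup.subset_closure (by simp)
  have hvH : v ∈ H := Subgroup.subset_closure (by simp)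
  have hwH : w ∈ H := Subgroup.subset_closure (by simp)
  set c := eVec k F 0 with hc_def
  have hASA : A * S * Aᵀ = S + Matrix.single 0 0 1 := by
    have h0 := bidiag_single_zero (k := k) (F := F)
    have h1 := bidiag_single_succ (k := k) (F := F) 0 1 (by simp)
    have h2' := bidiag_single_succ (k := k) (F := F) 1 two (by simp [two])
    have key : ∀ i j, bidiag k F * Matrix.single i j (1 : F) * (bidiag k F)ᵀ =
        vecMulVec (bidiag k F *ᵥ Pi.single i 1) (bidiag k F *ᵥ Pi.single j 1) := fun i j => by
      rw [Matrix.single_eq_single_vecMulVec_single, mul_vecMulVec, vecMulVec_mul, vecMul_transpose]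
    simp only [S, hAdef, mul_add, add_mul, key, h0, h1, h2']
    simp only [vecMulVec_add, add_vecMulVec, single_eq_single_vecMulVec_single]
    ext i j
    simp only [Matrix.add_apply]
    linear_combination (vecMulVec (Pi.single 0 (1 : F)) (Pi.single (1 : Fin (k + 2)) (1 : F)) i j +
      vecMulVec (Pi.single (1 : Fin (k + 2)) (1 : F)) (Pi.single 0 (1 : F)) i j) * h2
  have hct : spTransv hA c 1 ∈ H := by
    have h1 : sh (-S) hnS * regMat k F * (sh (-S) hnS)⁻¹ * (regMat k F)⁻¹ =
        sh (Matrix.single 0 0 (1 : F)) (outer_symm _ _) := by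
      rw [conj_sh_regMat hS]
      refine sh_congr _ _ ?_
      rw [← hAdef, hASA]
      abel
    have : w * u⁻¹ = spTransv hA c 1 := by
      rw [hw, hkw, hu_def, regB, ← map_inv, ← map_mul, ← map_mul, ← map_inv, ← map_mul, h1,
        sh_diag_eq_transv]
    exact this ▸ mul_mem hwH (inv_mem huH)
  have hcC : c ∈ rootCentres hA H := fun α => by
    rcases h01 α with rfl | rfl
    · rw [spTransv_zero]; exact one_mem _
    · exact hct
  set C := rootCentres hA H
  have hAdef' : ∀ y : Fin (k + 2) → F, u • Sum.elim y (0 : Fin (k + 2) → F) = Sum.elim (A *ᵥ y) 0 :=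
    fun y => by rw [hu_def, regB_smul, Pi.zero_apply, zero_smul, add_zero, mulVec_zero]
  have hv_smul : ∀ a b : Fin (k + 2) → F, v • Sum.elim a b =
      Sum.elim (D *ᵥ a) (A *ᵥ (b + a L • Pi.single L 1)) := by
    intro a b
    have hji : (jB k F)⁻¹ • Sum.elim a b = Sum.elim b a := by
      rw [inv_smul_eq_iff, jB_smul, hnegv]
    rw [hv, mul_smul, mul_smul, hji, hu_def, regB_smul, jB_smul, hnegv]
  -- the rules
  have R1 : ∀ y : Fin (k + 2) → F, y L = 0 → Sum.elim (D *ᵥ y) 0 ∈ C → Sum.elim y 0 ∈ C := by
    intro y hy h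
    have := rootCentres_image (inv_mem hvH) h
    rwa [show v⁻¹ • Sum.elim (D *ᵥ y) 0 = Sum.elim y 0 by
      rw [inv_smul_eq_iff, hv_smul, hy, zero_smul, add_zero, mulVec_zero]] at this
  have R2 : ∀ y : Fin (k + 2) → F, y L = 0 → Sum.elim y 0 ∈ C → Sum.elim (D *ᵥ y) 0 ∈ C := by
    intro y hy h
    have := rootCentres_image hvH h
    rwa [hv_smul, hy, zero_smul, add_zero, mulVec_zero] at this
  have R3 : ∀ y : Fin (k + 2) → F, Sum.elim (A *ᵥ y) 0 ∈ C → Sum.elim y 0 ∈ C := by
    intro y h
    have := rootCentres_image (inv_mem huH) h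
    rwa [← hAdef', inv_smul_smul] at this
  have hAy : ∀ (y : Fin (k + 2) → F) (i : ℕ), i < k + 2 →
      ext0 (A *ᵥ y) i = ext0 y i + ext0 y (i + 1) := by
    intro y i hi
    rw [ext0, dif_pos hi, hAdef, bidiag_mulVec, ← ext0_val y ⟨i, hi⟩]
  have hfull : ∀ K : ℕ, K ≤ k + 1 → ∀ y : Fin (k + 2) → F,
      (∀ i, K < i → ext0 y i = 0) → Sum.elim y 0 ∈ C := by
    intro K
    induction K with
    | zero =>
      intro _ y hy
      have e : Sum.elim y (0 : Fin (k + 2) → F) = y 0 • c := by
        ext (i | i)
        · by_cases hi : i = 0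
          · subst hi; simp [c, eVec]
          · have := hy i.1 (Nat.pos_of_ne_zero fun e => hi (Fin.ext e))
            rw [ext0_val] at this
            simp [c, eVec, hi, this]
        · simp [c, eVec]
      rw [e]
      exact rootCentres_smul_mem hcC _
    | succ K ih =>
      intro hK y hy
      have ihK := ih (by omega)
      by_cases htop : ext0 y (K + 1) = 0
      · refine ihK y fun i hi => ?_
        rcases Nat.lt_or_ge (K + 1) i with h | h
        · exact hy i h
        · rwa [show i = K + 1 by omega]
      rcases Nat.lt_or_ge (K + 1) (k + 1) with hlt | hge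
      · -- below the last level
        have hgood : ∀ z : Fin (k + 2) → F, (∀ i, K + 1 < i → ext0 z i = 0) → ext0 z 0 = 0 →
            Sum.elim (A *ᵥ z) 0 ∈ C := by
          intro z hz hz0
          refine R1 _ ?_ (ihK _ fun i hi => ?_)
          · rw [← ext0_val (A *ᵥ z) L, hAy _ _ L.2, hz _ (by simp [hL, lastIdx]; omega),
              hz _ (by simp [hL, lastIdx]; omega), add_zero]
          · by_cases hi2 : i < k + 2
            swap
            · exact ext0_ge _ (by omega)
            have hd : D *ᵥ (A *ᵥ z) = fun j : Fin (k + 2) => ext0 z 0 + ext0 z (j.1 + 1) := by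
              refine dual_mulVec_eq (funext fun j => ?_)
              rw [bidiag_transpose_mulVec, ← ext0_val (A *ᵥ z) j, hAy _ _ j.2]
              by_cases hj : j.1 = 0
              · rw [if_pos hj, hj]; simp
              · have hval : ∀ (f : Fin (k + 2) → F) (i : ℕ) (h : i < k + 2), ext0 f i = f ⟨i, h⟩ :=
                  fun f i h => dif_pos h
                rw [if_neg hj, hval _ (j.1 - 1) (by omega)]
                simp only [show j.1 - 1 + 1 = j.1 by omega]
                linear_combination (ext0 z 0) * h2
            rw [ext0, dif_pos hi2, hd]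
            simp only [hz0, zero_add]
            exact hz _ (by omega)
        have hstab : ∀ z : Fin (k + 2) → F, (∀ i, K + 1 < i → ext0 z i = 0) →
            ∀ i, K + 1 < i → ext0 (A *ᵥ z) i = 0 := fun z hz i hi => by
          by_cases hi2 : i < k + 2
          · rw [hAy _ _ hi2, hz i hi, hz (i + 1) (by omega), add_zero]
          · exact ext0_ge _ (by omega)
        have hzero : ∀ z : Fin (k + 2) → F, (∀ i, K + 1 < i → ext0 z i = 0) → ext0 z 0 = 0 →
            Sum.elim z 0 ∈ C := fun z hz hz0 => R3 _ (hgood z hz hz0)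
        have key : ∀ (j : ℕ) (z : Fin (k + 2) → F), j ≤ K →
            (∀ i, K + 1 < i → ext0 z i = 0) → ext0 z 0 = 0 ∨ ext0 z (j + 1) ≠ 0 →
            Sum.elim z 0 ∈ C := by
          intro j
          induction j with
          | zero =>
            intro z _ hz h
            by_cases h0 : ext0 z 0 = 0
            · exact hzero z hz h0
            refine R3 _ (hzero _ (hstab z hz) ?_)
            rw [hAy _ _ (by omega), hone h0, hone (h.resolve_left h0)]
            linear_combination h2
          | succ j ihj =>
            intro z hj hz h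
            by_cases h0 : ext0 z 0 = 0
            · exact hzero z hz h0
            by_cases hzj : ext0 z (j + 1) = 0
            · refine R3 _ (ihj _ (by omega) (hstab z hz) (Or.inr ?_))
              rw [hAy _ _ (by omega), hzj, zero_add]
              exact h.resolve_left h0
            · exact ihj z (by omega) hz (Or.inr hzj)
        exact key K y le_rfl hy (Or.inr htop)
      · -- the last level
        have hKk : K = k := by omega
        subst hKk
        have hgood : ∀ z : Fin (K + 2) → F, ext0 z (K + 1) ≠ 0 → ext0 z K ≠ 0 →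
            Sum.elim z 0 ∈ C := by
          intro z hz1 hz0
          have e : z = D *ᵥ (Aᵀ *ᵥ z) := by rw [hDdef, hAdef, dual_mulVec_eq rfl]
          rw [e]
          have hx : (Aᵀ *ᵥ z) L = 0 := by
            rw [hAdef, bidiag_transpose_mulVec, ← ext0_val z L]
            simp only [hL, lastIdx, Nat.succ_ne_zero, if_false, Nat.add_sub_cancel]
            rw [hone hz1, hone hz0]
            linear_combination h2
          refine R2 _ hx (ihK _ fun i hi => ?_)
          by_cases hi2 : i < K + 2
          · rw [ext0, dif_pos hi2]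
            rwa [show (⟨i, hi2⟩ : Fin (K + 2)) = L from Fin.ext (by simp [hL, lastIdx]; omega)]
          · exact ext0_ge _ (by omega)
        by_cases hp : ext0 y K = 0
        · refine R3 _ (hgood _ ?_ ?_)
          · rw [hAy _ _ (by omega), ext0_ge y (show K + 2 ≤ K + 1 + 1 by omega), add_zero]
            exact htop
          · rw [hAy _ _ (by omega), hp, zero_add]
            exact htop
        · exact hgood y htop hp
  have hLag : ∀ a : Fin (k + 2) → F, Sum.elim a 0 ∈ C := fun a =>
    hfull (k + 1) le_rfl a fun i hi => ext0_ge _ (by omega)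
  -- shifting by the Lagrangian
  have hshift : ∀ a b : Fin (k + 2) → F, Sum.elim a b ∈ C → ∀ a', Sum.elim a' b ∈ C := by
    intro a b h a'
    by_cases hb : b = 0
    · subst hb; exact hLag a'
    have hadd : ∀ (a l : Fin (k + 2) → F), Sum.elim a b ∈ C → b ⬝ᵥ l ≠ 0 →
        Sum.elim (a + l) b ∈ C := by
      intro a l ha hl
      have := rootCentres_add ha (hLag l) (by rw [form_elim, dotProduct_zero, sub_zero]; exact hl)
      rwa [elim_add, add_zero] at this
    by_cases hl : b ⬝ᵥ (a' - a) = 0
    swap
    · simpa using hadd a (a' - a) h hl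
    obtain ⟨i, hi⟩ := Function.ne_iff.1 hb
    have h1 := hadd a (Pi.single i 1) h (by simpa using hi)
    have h2' := hadd _ (a' - a - Pi.single i 1) h1 (by
      rw [dotProduct_sub, hl]; simpa using hi)
    rwa [show a + Pi.single i 1 + (a' - a - Pi.single i 1) = a' by abel] at h2'
  let M : Submodule F (Fin (k + 2) → F) :=
    { carrier := {b | ∀ a, Sum.elim a b ∈ C}
      zero_mem' := hLag
      add_mem' := by
        intro b1 b2 h1 h2
        by_cases hb : b2 = 0
        · subst hb; simpa using h1
        obtain ⟨i, hi⟩ := Function.ne_iff.1 hb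
        refine hshift (Pi.single i 1) (b1 + b2) ?_
        have := rootCentres_add (h1 (Pi.single i 1)) (h2 0) (by
          rw [form_elim, dotProduct_zero, zero_sub]
          simpa using hi)
        rwa [elim_add, add_zero] at this
      smul_mem' := by
        intro r b hb a
        refine hshift 0 (r • b) ?_ a
        have := rootCentres_smul_mem (hb 0) r
        rwa [show r • Sum.elim (0 : Fin (k + 2) → F) b =
            Sum.elim (0 : Fin (k + 2) → F) (r • b) by
          ext (i | i) <;> simp] at this }
  have hMA : ∀ b ∈ M, A *ᵥ b ∈ M := fun b hb => hshift 0 _ (by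
    have := rootCentres_image hvH (hb 0)
    rwa [hv_smul, mulVec_zero, Pi.zero_apply, zero_smul, add_zero] at this)
  let δ : ℕ → (Fin (k + 2) → F) := fun i => if h : i < k + 2 then Pi.single ⟨i, h⟩ 1 else 0
  have hδ : ∀ i (h : i < k + 2), δ i = Pi.single (⟨i, h⟩ : Fin (k + 2)) 1 := fun i h => dif_pos h
  have hAδ : ∀ i, i + 1 < k + 2 → A *ᵥ δ (i + 1) = δ i + δ (i + 1) := fun i h => by
    rw [hδ _ h, hδ i (by omega)]
    exact bidiag_single_succ _ _ rfl
  have hAδ0 : A *ᵥ δ 0 = δ 0 := by
    rw [hδ 0 (by omega)]
    exact bidiag_single_zero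
  have hpairs : ∀ d i, i + d = k → δ i + δ (i + 1) ∈ M := by
    intro d
    induction d with
    | zero =>
      intro i hi
      have h1 := rootCentres_image hvH (hLag (Pi.single L 1))
      rw [hv_smul, Pi.single_eq_same, one_smul, zero_add] at h1
      have h2' : A *ᵥ Pi.single L (1 : F) ∈ M := hshift _ _ h1
      rw [← hAδ i (by omega), hδ _ (by omega)]
      rwa [show (⟨i + 1, by omega⟩ : Fin (k + 2)) = L from Fin.ext (by simp [hL, lastIdx]; omega)]
    | succ d ihd =>
      intro i hi
      have h1 := ihd (i + 1) (by omega)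
      have h2' := M.add_mem (hMA _ h1) h1
      rw [mulVec_add, hAδ i (by omega), hAδ (i + 1) (by omega)] at h2'
      convert h2' using 1
      ext j
      simp only [Pi.add_apply]
      linear_combination (-(δ (i + 1) j + δ (i + 1 + 1) j)) * h2
  have hδ0 : δ 0 ∈ M := by
    have h1 := hpairs k 0 (by omega)
    have h2' := M.add_mem (hMA _ h1) h1
    rw [mulVec_add, hAδ0, hAδ 0 (by omega)] at h2'
    convert h2' using 1
    ext j
    simp only [Pi.add_apply]
    linear_combination (-(δ 0 j + δ (0 + 1) j)) * h2
  have hδall : ∀ i, i < k + 2 → δ i ∈ M := by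
    intro i
    induction i with
    | zero => exact fun _ => hδ0
    | succ i ihi =>
      intro h
      have := M.sub_mem (hpairs (k - i) i (by omega)) (ihi (by omega))
      rwa [add_sub_cancel_left] at this
  have hM : ∀ b : Fin (k + 2) → F, b ∈ M := fun b => by
    have e : b = ∑ i, b i • (Pi.single i (1 : F) : Fin (k + 2) → F) := by
      ext j; simp [Finset.sum_apply, Pi.single_apply]
    rw [e]
    exact M.sum_mem fun i _ => M.smul_mem _ (hδ i.1 i.2 ▸ hδall i.1 i.2)
  rw [eq_top_iff, ← transvGroup_eq_top hA sympBilin_nondegenerate, spTransvGroup,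
    Subgroup.closure_le]
  rintro _ ⟨⟨x, α⟩, rfl⟩
  obtain ⟨a, b, rfl⟩ := exists_elim x
  exact hM b a α

end Cfsg.Agent.SpGen
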